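/-
Class size frequencies determine nilpotency (Cossey, Hawkes and Mann).
-/
import Mathlib
import Cfsg.Agent.Lib.ClassSz.Isaacs
import Cfsg.Agent.Lib.Count.Basic
import Cfsg.Agent.Lib.BGI.Stable

set_option autoImplicit false

namespace CfsgLib.ClassSz

open Subgroup CfsgLib.Fgs CfsgLib.Core Cfsg
open scoped commutatorElement

universe u

variable {G : Type u} [Group G]

theorem card_index_cent_eq [Finite G] (k : ℕ) :
    Nat.card {x : G // (centralizer ({x} : Set G)).index = k} =
      Nat.card {C : ConjClasses G // Nat.card C.carrier = k} * k := by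
  classical
  let f : {x : G // (centralizer ({x} : Set G)).index = k} →
      {C : ConjClasses G // Nat.card C.carrier = k} :=
    fun x => ⟨ConjClasses.mk x.1, by rw [card_carrier_eq_index, x.2]⟩
  have := Fintype.ofFinite {C : ConjClasses G // Nat.card C.carrier = k}
  rw [← Nat.card_congr (Equiv.sigmaFiberEquiv f), Nat.card_sigma, Finset.sum_const_nat (m := k),
    Finset.card_univ, Nat.card_eq_fintype_card]
  rintro ⟨C, hC⟩ -
  refine Eq.trans ?_ hC
  refine Nat.card_congr ⟨fun x => ⟨x.1.1, ConjClasses.mem_carrier_iff_mk_eq.2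
    (congrArg Subtype.val x.2)⟩, fun y => ⟨⟨y.1, ?_⟩, Subtype.ext
      (ConjClasses.mem_carrier_iff_mk_eq.1 y.2)⟩, fun _ => rfl, fun _ => rfl⟩
  rw [← card_carrier_eq_index, ConjClasses.mem_carrier_iff_mk_eq.1 y.2, hC]

theorem dvd_ncard_of_forall_dvd_index [Finite G] {p : ℕ} (S : Set ℕ) (hS : ∀ k ∈ S, p ∣ k) :
    p ∣ {x : G | (centralizer ({x} : Set G)).index ∈ S}.ncard := by
  classical
  have := Fintype.ofFinite G
  rw [Set.ncard_eq_toFinset_card', Finset.card_eq_sum_card_image
    (fun x : G => (centralizer ({x} : Set G)).index)]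
  refine Finset.dvd_sum fun k hk => ?_
  obtain ⟨x, hx, rfl⟩ := Finset.mem_image.1 hk
  rw [Set.mem_toFinset] at hx
  refine (hS _ hx).trans ⟨Nat.card {C : ConjClasses G //
    Nat.card C.carrier = (centralizer ({x} : Set G)).index}, ?_⟩
  rw [mul_comm, ← card_index_cent_eq, Nat.card_eq_fintype_card, Fintype.card_subtype]
  congr 1
  ext y
  simp only [Finset.mem_filter, Set.mem_toFinset, Set.mem_ofPred_eq, Finset.mem_univ, true_and,
    and_iff_right_iff_imp]
  intro h
  rw [h]
  exact hx

/-- The elements whose class size is a power of `p`. -/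
def powSet (p : ℕ) (G : Type*) [Group G] : Set G :=
  {x | ∃ j, (centralizer ({x} : Set G)).index = p ^ j}

theorem mem_powSet_quotient_iff [Finite G] {p : ℕ} [hp : Fact p.Prime] {Z : Subgroup G} [Z.Normal]
    (hZ : Z ≤ center G) (hp' : IsPGroup p Z) (x : G) :
    (x : G ⧸ Z) ∈ powSet p (G ⧸ Z) ↔ x ∈ powSet p G := by
  constructor
  · rintro ⟨j, hj⟩
    set D := (centralizer ({(x : G ⧸ Z)} : Set (G ⧸ Z))).comap (QuotientGroup.mk' Z) with hD
    have hDm : ∀ d ∈ D, ⁅d, x⁆ ∈ Z := fun d hd => by
      rw [← QuotientGroup.eq_one_iff, ← QuotientGroup.mk'_apply, map_commutatorElement,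
        commutatorElement_eq_one_iff_commute]
      exact (mem_cent_iff.1 hd).symm
    let f : D →* G := MonoidHom.mk' (fun d => ⁅(d : G), x⁆) fun a b => by
      rw [Subgroup.coe_mul, commutatorElement_mul_left_of_commute
        (mem_center_iff.1 (hZ (hDm _ b.2)) a), mem_center_iff.1 (hZ (hDm _ b.2))]
    have h1 : f.ker = (centralizer ({x} : Set G)).subgroupOf D := by
      ext u
      rw [MonoidHom.mem_ker, mem_subgroupOf, mem_centralizer_singleton_iff,
        ← commutatorElement_eq_one_iff_mul_comm]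
      rfl
    have h2 : f.range ≤ Z := by
      rintro _ ⟨d, rfl⟩
      exact hDm _ d.2
    obtain ⟨i, hi⟩ := (hp'.to_le h2).exists_card_eq
    refine ⟨i + j, ?_⟩
    rw [← relIndex_mul_index (map_le_iff_le_comap.1 (map_cent_le (QuotientGroup.mk' Z) x)),
      index_comap_of_surjective _ (QuotientGroup.mk'_surjective Z), pow_add, ← hi, ← index_ker, h1]
    exact congrArg _ hj
  · rintro ⟨j, hj⟩
    obtain ⟨i, -, hi⟩ := (Nat.dvd_prime_pow hp.out).1 (hj ▸ index_cent_quotient_dvd Z x)
    exact ⟨i, hi⟩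

theorem ncard_powSet_quotient [Finite G] {p : ℕ} [hp : Fact p.Prime] {Z : Subgroup G} [Z.Normal]
    (hZ : Z ≤ center G) (hp' : IsPGroup p Z) :
    (powSet p G).ncard = Nat.card Z * (powSet p (G ⧸ Z)).ncard := by
  rw [← Nat.card_coe_set_eq, ← Nat.card_coe_set_eq, ← QuotientGroup.card_preimage_mk]
  congr 2
  ext x
  exact (mem_powSet_quotient_iff hZ hp' x).symm

theorem dvd_card_center_of_dvd_ncard_powSet [Finite G] {p : ℕ} (hp : p.Prime)
    (h : p ∣ (powSet p G).ncard) : p ∣ Nat.card (center G) := by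
  have h1 := dvd_ncard_of_forall_dvd_index (G := G) (p := p) {k | ∃ j, k = p ^ (j + 1)}
    (by rintro _ ⟨j, rfl⟩; exact dvd_pow_self p j.succ_ne_zero)
  have h2 : powSet p G = (center G : Set G) ∪
      {x : G | (centralizer ({x} : Set G)).index ∈ {k | ∃ j, k = p ^ (j + 1)}} := by
    ext x
    constructor
    · rintro ⟨_ | j, hj⟩
      · exact Or.inl (index_cent_eq_one_iff.1 hj)
      · exact Or.inr ⟨j, hj⟩
    · rintro (hx | ⟨j, hj⟩)
      · exact ⟨0, index_cent_eq_one_iff.2 hx⟩
      · exact ⟨_, hj⟩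
  rw [h2, Set.ncard_union_eq, ← Nat.card_coe_set_eq] at h
  · exact (Nat.dvd_add_left h1).1 h
  · rw [Set.disjoint_left]
    rintro x hx ⟨j, hj⟩
    rw [index_cent_eq_one_iff.2 hx] at hj
    exact (Nat.one_lt_pow j.succ_ne_zero hp.one_lt).ne hj

theorem commute_of_powSet_aux {p : ℕ} [hp : Fact p.Prime] (n : ℕ) :
    ∀ (G : Type u) [Group G] [Finite G], Nat.card G = n →
    (∀ j, p ^ j ∣ Nat.card G → p ^ j ∣ (powSet p G).ncard) →
    ∀ x y : G, (∃ k, x ^ p ^ k = 1) → (orderOf y).Coprime p → Commute y x := by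
  induction n using Nat.strong_induction_on with
  | _ n ih =>
  intro G _ _ hn h x y ⟨k, hx⟩ hy
  by_cases hG : p ∣ Nat.card G
  swap
  · have : x = 1 := by
      rw [← orderOf_eq_one_iff]
      exact Nat.eq_one_of_dvd_coprimes (Nat.Coprime.pow_left k
        ((Nat.Prime.coprime_iff_not_dvd hp.out).2 hG)) (orderOf_dvd_of_pow_eq_one hx)
        (orderOf_dvd_natCard x)
    rw [this]; exact Commute.one_right y
  have h1 := dvd_card_center_of_dvd_ncard_powSet hp.out (by simpa using h 1 (by simpa using hG))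
  obtain ⟨z, hz⟩ := exists_prime_orderOf_dvd_card' p h1
  rw [← Subgroup.orderOf_coe] at hz
  have hZ : zpowers (z : G) ≤ center G := zpowers_le.2 z.2
  have hc : Nat.card (zpowers (z : G)) = p := by rw [Nat.card_zpowers, hz]
  have hn' : (zpowers (z : G)).Normal := ⟨fun a ha g => by
    rwa [mem_center_iff.1 (hZ ha) g, mul_inv_cancel_right]⟩
  have hp' : IsPGroup p (zpowers (z : G)) := IsPGroup.of_card (n := 1) (by rw [hc, pow_one])
  have h2 := ih _ (hn ▸ card_quotient_lt_of_ne_bot (N := zpowers (z : G)) (by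
      intro h3; rw [h3, card_bot] at hc; exact hp.out.one_lt.ne hc)) (G ⧸ zpowers (z : G)) rfl
    (fun j hj => by
      have h3 := h (j + 1) (by
        rw [card_eq_card_quotient_mul_card_subgroup (zpowers (z : G)), hc, pow_succ]
        exact mul_dvd_mul_right hj p)
      rw [ncard_powSet_quotient hZ hp', hc, pow_succ'] at h3
      exact (Nat.mul_dvd_mul_iff_left hp.out.pos).1 h3)
    x y ⟨k, by rw [← QuotientGroup.mk_pow, hx, QuotientGroup.mk_one]⟩
    (Nat.Coprime.coprime_dvd_left (orderOf_map_dvd (QuotientGroup.mk' _) y) hy)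
  have h3 : ⁅y, x⁆ ∈ zpowers (z : G) := by
    rw [← QuotientGroup.eq_one_iff, ← QuotientGroup.mk'_apply, map_commutatorElement,
      commutatorElement_eq_one_iff_commute]
    exact h2
  refine CfsgLib.BGI.commute_of_commute_commutator (mem_center_iff.1 (hZ h3) y) ?_
  exact Nat.Coprime.coprime_dvd_right (hc ▸ Subgroup.orderOf_dvd_natCard _ h3) hy

theorem isNilpotent_of_commute_coprime [Finite G]
    (h : ∀ p : ℕ, p.Prime → ∀ x y : G, (∃ k, x ^ p ^ k = 1) → (orderOf y).Coprime p → Commute y x) :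
    Group.IsNilpotent G := by
  refine isNilpotent_of_forall_sylow_normal fun p hp P => ?_
  rw [← normalizer_eq_top_iff]
  refine CfsgLib.Count.eq_top_of_sylow_le _ fun q hq => ?_
  by_cases hqp : q = p
  · subst hqp
    exact ⟨P, le_normalizer⟩
  have := Fact.mk hq
  obtain ⟨Q⟩ : Nonempty (Sylow q G) := inferInstance
  refine ⟨Q, le_trans ?_ (centralizer_le_normalizer _)⟩
  intro y hy x hx
  obtain ⟨k, hk⟩ := orderOf_eq_pow_of_mem_isPGroup Q.isPGroup' hy
  exact (h p hp.out x y (isPGroup_subgroup_iff.1 P.isPGroup' x hx)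
    (hk ▸ Nat.Coprime.pow_left k ((Nat.coprime_primes hq hp.out).2 hqp))).symm.eq

theorem pow_dvd_ncard_powSet_of_isNilpotent [Finite G] [Group.IsNilpotent G] {p : ℕ}
    [hp : Fact p.Prime] (j : ℕ) (hj : p ^ j ∣ Nat.card G) : p ^ j ∣ (powSet p G).ncard := by
  have := pPrimeCore_normal p G
  have h1 : powSet p G = centralizer (pPrimeCore p G : Set G) := by
    ext x
    constructor
    · rintro ⟨i, hi⟩
      have h2 : pPrimeCore p G ≤ centralizer {x} := by
        rw [← relIndex_eq_one]
        exact Nat.eq_one_of_dvd_coprimes ((coprime_card_pPrimeCore p G).pow_right i)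
          (relIndex_dvd_card _ _) (hi ▸ relIndex_dvd_index_of_normal_right _ _)
      exact fun y hy => (mem_cent_iff.1 (h2 hy)).symm.eq
    · intro hx
      have h2 : pPrimeCore p G ≤ centralizer {x} := fun y hy => mem_cent_iff.2 (hx y hy).symm
      obtain ⟨a, ha⟩ := (isPGroup_pCore p G).exists_card_eq
      have h3 : (pPrimeCore p G).index ∣ p ^ a := by
        rw [← relIndex_top_right, ← pCore_sup_pPrimeCore_of_isNilpotent hp.out, relIndex_sup_right,
          ← ha]
        exact relIndex_dvd_card _ _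
      obtain ⟨i, -, hi⟩ := (Nat.dvd_prime_pow hp.out).1 ((index_dvd_of_le h2).trans h3)
      exact ⟨i, hi⟩
  rw [h1, ← Nat.card_coe_set_eq]
  refine Dvd.dvd.trans ?_ (card_dvd_of_le (pCore_le_centralizer_pPrimeCore (p := p)))
  rw [← (pCore p G).card_mul_index] at hj
  exact (Nat.Coprime.pow_left j ((Nat.Prime.coprime_iff_not_dvd hp.out).2
    (not_dvd_index_pCore_of_isNilpotent p))).dvd_of_dvd_mul_right hj

theorem isNilpotent_of_class_frequency [Finite G] {H : Type*} [Group H] [Finite H]
    (hH : Group.IsNilpotent H)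
    (h : ∀ k : ℕ, Nat.card {C : ConjClasses G // Nat.card C.carrier = k} =
      Nat.card {C : ConjClasses H // Nat.card C.carrier = k}) : Group.IsNilpotent G := by
  have h1 : ∀ k : ℕ, Nonempty ({x : G // (centralizer ({x} : Set G)).index = k} ≃
      {x : H // (centralizer ({x} : Set H)).index = k}) := fun k =>
    Finite.card_eq.1 (by rw [card_index_cent_eq, card_index_cent_eq, h])
  let e : G ≃ H := Equiv.ofFiberEquiv fun k => (h1 k).some
  have he : ∀ x, (centralizer ({e x} : Set H)).index = (centralizer ({x} : Set G)).index :=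
    Equiv.ofFiberEquiv_map fun k => (h1 k).some
  refine isNilpotent_of_commute_coprime fun p hp => ?_
  have := Fact.mk hp
  refine commute_of_powSet_aux _ G rfl fun j hj => ?_
  have h2 : powSet p G = e ⁻¹' powSet p H := by
    ext x
    simp only [powSet, Set.mem_preimage, Set.mem_ofPred_eq, he]
  rw [h2, Set.ncard_preimage_of_injective_subset_range e.injective (by simp)]
  exact pow_dvd_ncard_powSet_of_isNilpotent j (Nat.card_congr e ▸ hj)

end CfsgLib.ClassSz
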