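/-
Normal subgroups with two `G`-class sizes: preliminary lemmas.
-/
import Mathlib
import Cfsg.Agent.Lib.ClassSz.Four
import Cfsg.Agent.Lib.ClassSz.Frequency
import Cfsg.Agent.Lib.Frob.Complement
import Cfsg.Agent.Lib.SolvStruct.Util

set_option autoImplicit false

namespace CfsgLib.ClassSz

open Subgroup CfsgLib.Fgs CfsgLib.Core Cfsg
open scoped commutatorElement

universe u

variable {G : Type u} [Group G]

theorem commute_of_comm_central_of_coprime {a b : G} {n : ℕ} (h : ⁅a, b⁆ ∈ center G)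
    (hb : b ^ n ∈ center G) (hc : (orderOf a).Coprime n) : Commute a b := by
  refine CfsgLib.BGI.commute_of_commute_commutator (mem_center_iff.1 h a)
    (Nat.Coprime.coprime_dvd_right (orderOf_dvd_of_pow_eq_one ?_) hc)
  rw [← commutatorElement_pow_right_of_commute (mem_center_iff.1 h b),
    commutatorElement_eq_one_iff_commute]
  exact mem_center_iff.1 hb a

theorem commute_mk_iff (Z : Subgroup G) [Z.Normal] {a b : G} :
    Commute (a : G ⧸ Z) (b : G ⧸ Z) ↔ ⁅a, b⁆ ∈ Z := by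
  rw [← QuotientGroup.eq_one_iff, ← QuotientGroup.mk'_apply Z ⁅a, b⁆, map_commutatorElement,
    commutatorElement_eq_one_iff_commute]
  rfl

theorem exists_pelt_not_mem [Finite G] {s : ℕ} [Fact s.Prime] {Z H : Subgroup G}
    (h : s ∣ Z.relIndex H) : ∃ x ∈ H, x ∉ Z ∧ ∃ k, orderOf x = s ^ k := by
  by_contra hc
  push Not at hc
  refine CfsgLib.BGI.not_dvd_relIndex_of_pgroup_le (fun P hP hp x hx => ?_) h
  by_contra hxZ
  obtain ⟨k, hk⟩ := orderOf_eq_pow_of_mem_isPGroup hp hx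
  exact hc x (hP hx) hxZ k hk

theorem dvd_relIndex_of_pelt {s : ℕ} (hs : s.Prime) {Z H : Subgroup G}
    (hn : H ≤ normalizer (Z : Set G)) {x : G} (hx : x ∈ H) (hxZ : x ∉ Z)
    (hk : ∃ k, orderOf x = s ^ k) : s ∣ Z.relIndex H := by
  by_contra h
  obtain ⟨k, hk⟩ := hk
  have : (Z.subgroupOf H).Normal := normal_subgroupOf_of_le_normalizer hn
  refine hxZ (CfsgLib.SolvStruct.mem_of_pow_mem_of_coprime (a := s ^ k) (b := Z.relIndex H)
    (by rw [← hk, pow_orderOf_eq_one]; exact one_mem _)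
    ((Z.subgroupOf H).pow_index_mem ⟨x, hx⟩) (Nat.Coprime.pow_left k (hs.coprime_iff_not_dvd.2 h)))

theorem exists_second_center_rel [Finite G] {p : ℕ} [hp : Fact p.Prime] {S D Z : Subgroup G}
    [Z.Normal] (hS : IsPGroup p S) (hD : D ≤ S) (hn : S ≤ normalizer (D : Set G)) (h : ¬ D ≤ Z) :
    ∃ z ∈ D, z ∉ Z ∧ (∀ g ∈ S, ⁅g, z⁆ ∈ Z) ∧ z ^ p ∈ Z := by
  have h1 := inf_centralizer_ne_bot_of_isPGroup ((hS.to_le hD).map (QuotientGroup.mk' Z))
    (hS.map (QuotientGroup.mk' Z)) ((map_mono hn).trans (le_normalizer_map _)) (by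
      rwa [Ne, Subgroup.map_eq_bot_iff, QuotientGroup.ker_mk'])
  rcases (((hS.to_le hD).map (QuotientGroup.mk' Z)).to_inf_left (K := centralizer
    (S.map (QuotientGroup.mk' Z) : Set (G ⧸ Z)))).card_eq_or_dvd with h3 | h2
  · exact absurd (card_eq_one.1 h3) h1
  obtain ⟨⟨w, hw⟩, hz3⟩ := exists_prime_orderOf_dvd_card' p h2
  rw [Subgroup.orderOf_mk] at hz3
  obtain ⟨⟨z, hz, rfl⟩, hz2⟩ := hw
  refine ⟨z, hz, fun h4 => ?_, fun g hg => ?_, ?_⟩
  · rw [QuotientGroup.mk'_apply, (QuotientGroup.eq_one_iff z).2 h4, orderOf_one] at hz3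
    exact hp.out.one_lt.ne hz3
  · exact (commute_mk_iff Z).1 (hz2 _ ⟨g, hg, rfl⟩)
  · rw [← QuotientGroup.eq_one_iff, ← QuotientGroup.mk'_apply, map_pow, ← hz3, pow_orderOf_eq_one]

open scoped IsMulCommutative in
theorem not_sq_dvd_relIndex_of_fpf [Finite G] {s : ℕ} (hs : s.Prime) {S V C : Subgroup G}
    [IsMulCommutative V] (hV : V ≠ ⊥) (hcop : (Nat.card V).Coprime s)
    (hS : S ≤ normalizer (V : Set G)) (hC : C ≤ centralizer (V : Set G))
    (h1 : ∀ g ∈ S, ∀ h ∈ S, ⁅g, h⁆ ∈ C) (h2 : ∀ g ∈ S, g ^ s ∈ C)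
    (h3 : ∀ g ∈ S, g ∉ C → ∀ v ∈ V, Commute g v → v = 1) : ¬ s * s ∣ C.relIndex S := by
  intro hd
  have := Fact.mk hs
  let φ : S →* MulAut V := V.normalizerMonoidHom.comp (inclusion hS)
  have hφ : ∀ (g : S) (v : V), ((φ g v : V) : G) = g * v * (g : G)⁻¹ := fun _ _ => rfl
  have hk1 : ∀ g : S, (g : G) ∈ C → φ g = 1 := fun g hg => by
    ext v
    rw [hφ, ← hC hg v v.2, mul_inv_cancel_right]
    rfl
  have hk2 : ∀ g : S, (g : G) ∉ C → ∀ v, φ g v = v → v = 1 := fun g hg v hv =>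
    Subtype.ext (h3 g g.2 hg v v.2 (by
      have := congrArg Subtype.val hv
      rwa [hφ, mul_inv_eq_iff_eq_mul] at this))
  obtain ⟨w, hw⟩ := ne_bot_iff_exists_ne_one.1 hV
  have hker : φ.ker = C.subgroupOf S := by
    ext g
    refine ⟨fun hg => by_contra fun hc => hw (hk2 g hc w ?_), hk1 g⟩
    rw [MonoidHom.mem_ker.1 hg]; rfl
  rw [relIndex, ← hker, index_ker] at hd
  obtain ⟨x, hx⟩ := exists_prime_orderOf_dvd_card' s ((dvd_mul_right s s).trans hd)
  obtain ⟨y, hy⟩ : ∃ y, y ∉ zpowers x := by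
    by_contra hc
    push Not at hc
    rw [← card_top, ← (eq_top_iff' _).2 hc, Nat.card_zpowers, hx] at hd
    have := Nat.le_of_dvd hs.pos hd
    nlinarith [hs.one_lt]
  have h4 := CfsgLib.Frob.pow_eq_one_of_fpf_rank_two (W := V) φ.range.subtype (by
    rintro ⟨_, g, rfl⟩ hg
    exact hk2 g fun h5 => hg (Subtype.ext (hk1 g h5))) hs (x := x) (y := y) (by
      obtain ⟨_, g, rfl⟩ := x
      obtain ⟨_, h, rfl⟩ := y
      refine Subtype.ext (commutatorElement_eq_one_iff_commute.1 ?_)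
      rw [← map_commutatorElement]
      exact hk1 _ (h1 g g.2 h h.2)) hx (by
      obtain ⟨_, h, rfl⟩ := y
      refine Subtype.ext ?_
      change φ h ^ s = 1
      rw [← map_pow]
      exact hk1 _ (h2 h h.2)) hy w
  refine hw (orderOf_eq_one_iff.1 (Nat.eq_one_of_dvd_coprimes hcop (orderOf_dvd_natCard w)
    (orderOf_dvd_of_pow_eq_one h4)))

/-- Every element of `N` has class size `1` or `m` in `G`. -/
structure TwoSz (N : Subgroup G) (m : ℕ) : Prop where
  normal : N.Normal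
  size : ∀ x ∈ N, x ∉ center G → (centralizer ({x} : Set G)).index = m

/-- The elements of `N` in `C` are central in `C`. -/
def GoodC (N C : Subgroup G) : Prop := ∀ v ∈ N, v ∈ C → C ≤ centralizer {v}

namespace TwoSz

variable [Finite G] {N : Subgroup G} {m : ℕ}

theorem ceq (h : TwoSz N m) {x y : G} (hx : x ∈ N) (hy : y ∈ N) (hyZ : y ∉ center G)
    (hle : centralizer ({x} : Set G) ≤ centralizer {y}) :
    centralizer ({x} : Set G) = centralizer {y} :=
  cent_eq_of_le_of_index_eq hle ((h.size x hx fun h1 => hyZ (cent_eq_top_iff.1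
    (top_le_iff.1 ((cent_eq_top_iff.2 h1).ge.trans hle)))).trans (h.size y hy hyZ).symm)

theorem le_of_coprime (h : TwoSz N m) {u v : G} (hu : u ∈ N) (hv : v ∈ N) (huZ : u ∉ center G)
    (hc : Commute u v) (hcop : (orderOf u).Coprime (orderOf v)) :
    centralizer ({u} : Set G) ≤ centralizer {v} := by
  have h1 := cent_mul_of_coprime hc hcop
  rw [← h.ceq (N.mul_mem hu hv) hu huZ (h1.le.trans inf_le_left), h1]
  exact inf_le_right

theorem good_eq (h : TwoSz N m) {x v : G} (hx : x ∈ N) (hg : GoodC N (centralizer {x}))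
    (hv : v ∈ N) (hvx : v ∈ centralizer ({x} : Set G)) (hvZ : v ∉ center G) :
    centralizer ({x} : Set G) = centralizer {v} :=
  h.ceq hx hv hvZ (hg v hv hvx)

theorem mem_normalizer (h : TwoSz N m) {x w y : G} (hx : x ∈ N) (hg : GoodC N (centralizer {x}))
    (hw : w ∈ N) (hwx : w ∈ centralizer ({x} : Set G)) (hwZ : w ∉ center G)
    (hy : y * w * y⁻¹ ∈ centralizer ({x} : Set G)) :
    y ∈ normalizer ((centralizer ({x} : Set G) : Subgroup G) : Set G) := by
  rw [mem_normalizer_iff_map_conj_eq']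
  have h1 := h.good_eq hx hg (h.normal.conj_mem _ hw y) hy fun h2 => hwZ (by
    have := (inferInstance : (center G).Normal).conj_mem _ h2 y⁻¹
    simpa only [inv_inv, mul_assoc, inv_mul_cancel_left, inv_mul_cancel, mul_one] using this)
  rw [cent_conj, ← h.good_eq hx hg hw hwx hwZ] at h1
  exact h1.symm

theorem good_of_pair (h : TwoSz N m) {r : ℕ} [hr : Fact r.Prime] {x w : G} (hx : x ∈ N)
    (hxZ : x ∉ center G) (hxr : ¬ r ∣ orderOf x) (hw : w ∈ N) (hwZ : w ∉ center G)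
    (hwr : ∃ k, orderOf w = r ^ k) (hc : Commute x w) : GoodC N (centralizer {x}) := by
  have hcop : ∀ {a b : G}, ¬ r ∣ orderOf a → (∃ k, orderOf b = r ^ k) →
      (orderOf a).Coprime (orderOf b) := fun ha ⟨k, hk⟩ =>
    hk ▸ (Nat.Coprime.pow_left k (hr.out.coprime_iff_not_dvd.2 ha)).symm
  have h1 := h.ceq hx hw hwZ (h.le_of_coprime hx hw hxZ hc (hcop hxr hwr))
  intro v hv hvx
  obtain ⟨a, b, ha, hb, rfl, hab, ha', hb'⟩ := exists_p_part r v
  rw [cent_mul_of_coprime hab (hcop hb' ha').symm]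
  have hz : zpowers (a * b) ≤ N ⊓ centralizer {x} := zpowers_le.2 ⟨hv, hvx⟩
  refine le_inf (h.le_of_coprime hx (hz ha).1 hxZ (mem_cent_iff.1 (hz ha).2) (hcop hxr ha')) ?_
  rw [h1]
  exact h.le_of_coprime hw (hz hb).1 hwZ (mem_cent_iff.1 (h1 ▸ (hz hb).2)) (hcop hb' hwr).symm

theorem not_sq_dvd (h : TwoSz N m) {s : ℕ} [hs : Fact s.Prime] (S : Sylow s G) {x b : G}
    (hx : x ∈ N) (hxZ : x ∉ center G) (h1 : ∀ g ∈ (S : Subgroup G), ⁅g, x⁆ ∈ center G)
    (h2 : x ^ s ∈ center G) (hg : GoodC N (centralizer {x})) (hb : b ∈ N) (hbZ : b ∉ center G)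
    (hbx : b ∈ centralizer ({x} : Set G)) (hbs : (orderOf b).Coprime s) : ¬ s * s ∣ m := by
  have hn := h.normal
  intro hd
  set C := centralizer ({x} : Set G) with hC
  have hd' : s * s ∣ C.relIndex S := by
    have h3 : s * s ∣ C.relIndex S * (S : Subgroup G).index := by
      rw [relIndex_mul_index_comm, h.size x hx hxZ]
      exact hd.mul_left _
    have h4 := hs.out.coprime_iff_not_dvd.2 S.not_dvd_index
    exact (Nat.Coprime.mul_left h4 h4).dvd_of_dvd_mul_right h3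
  have hSC : (S : Subgroup G) ≤ normalizer (C : Set G) := fun g hgS =>
    h.mem_normalizer hx hg hx (self_mem_cent x) hxZ (by
      have : g * x * g⁻¹ = ⁅g, x⁆ * x := by rw [commutatorElement_def]; group
      rw [this]
      exact mul_mem (center_le_cent x (h1 g hgS)) (self_mem_cent x))
  have hA : ∀ a ∈ N ⊓ C, ∀ c ∈ C, Commute a c := fun a ha c hc => mem_cent_iff.1 (hg a ha.1 ha.2 hc)
  set B := (pPrimeCore s (N ⊓ C : Subgroup G)).map (N ⊓ C).subtype with hB
  have hBA : B ≤ N ⊓ C := map_subtype_le _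
  have hSB : (S : Subgroup G) ≤ normalizer (B : Set G) :=
    (CfsgLib.BGI.le_normalizer_inf le_normalizer_of_normal hSC).trans
      (normalizer_le_normalizer_map_pPrimeCore _)
  have hbB : b ∈ B := le_map_pPrimeCore (N := zpowers b) (H := N ⊓ C) (zpowers_le.2 ⟨hb, hbx⟩)
    (le_trans (by
      rw [centralizer_zpowers]; exact inf_le_right.trans (hg b hb hbx)) (centralizer_le_normalizer _))
    (by rwa [Nat.card_zpowers]) (mem_zpowers b)
  have hcB := coprime_card_map_pPrimeCore (p := s) (N ⊓ C)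
  have : IsMulCommutative B := ⟨⟨fun a c => Subtype.ext (hA _ (hBA a.2) _ (hBA c.2).2)⟩⟩
  have hVB : ⁅B, (S : Subgroup G)⁆ ≤ B := CfsgLib.Coprime.commutator_le_of_le_normalizer hSB
  have : IsMulCommutative (⁅B, (S : Subgroup G)⁆ : Subgroup G) :=
    ⟨⟨fun a c => Subtype.ext (hA _ (hBA (hVB a.2)) _ (hBA (hVB c.2)).2)⟩⟩
  have hfix : ∀ g, g ∉ C → ∀ v ∈ B, Commute g v → v ∈ center G := fun g hgC v hv hgv => by
    by_contra hvZ
    exact hgC (by rw [hC, h.good_eq hx hg (hBA hv).1 (hBA hv).2 hvZ]; exact mem_cent_iff.2 hgv.symm)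
  have hf : ∀ g ∈ (S : Subgroup G), ∀ k ∈ (S : Subgroup G), ⁅g * k, x⁆ = ⁅k, x⁆ * ⁅g, x⁆ :=
    fun g _ k hk => commutatorElement_mul_left_of_commute (mem_center_iff.1 (h1 k hk) g)
  refine not_sq_dvd_relIndex_of_fpf hs.out (V := ⁅B, (S : Subgroup G)⁆) (fun h3 => ?_)
    (Nat.Coprime.coprime_dvd_left (card_dvd_of_le hVB) hcB) (normalizer_commutator_ge_right _ _)
    (fun c hc v hv => hA v (hBA (hVB hv)) c hc) (fun g hgS k hk => ?_) (fun g hgS => ?_)
    (fun g hgS hgC v hv hgv => ?_) hd'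
  · have h4 : ¬ (S : Subgroup G) ≤ C := fun h4 => by
      rw [relIndex_eq_one.2 h4] at hd'
      exact hs.out.one_lt.ne' (Nat.eq_one_of_mul_eq_one_right (Nat.dvd_one.1 hd'))
    obtain ⟨g, hgS, hgC⟩ := SetLike.not_le_iff_exists.1 h4
    exact hbZ (hfix g hgC b hbB (commutator_eq_bot_iff_le_centralizer.1 h3 hbB g hgS))
  · refine mem_cent_iff.2 (commutatorElement_eq_one_iff_commute.1 ?_).symm
    rw [commutatorElement_def g k, hf _ (mul_mem (mul_mem hgS hk) (inv_mem hgS)) _ (inv_mem hk),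
      hf _ (mul_mem hgS hk) _ (inv_mem hgS), hf _ hgS _ hk,
      commutatorElement_inv_left_of_commute (mem_center_iff.1 (h1 k hk) k),
      commutatorElement_inv_left_of_commute (mem_center_iff.1 (h1 g hgS) g),
      ← mem_center_iff.1 (h1 k hk)]
    group
  · refine mem_cent_iff.2 (commutatorElement_eq_one_iff_commute.1 ?_).symm
    rw [commutatorElement_pow_left_of_commute (mem_center_iff.1 (h1 g hgS) g),
      ← commutatorElement_pow_right_of_commute (mem_center_iff.1 (h1 g hgS) x),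
      commutatorElement_eq_one_iff_commute]
    exact mem_center_iff.1 h2 g
  · have h3 := CfsgLib.Coprime.centralizer_inf_commutator_eq_bot hSB
      (isPGroup_coprime_card S.isPGroup' hcB)
    exact mem_bot.1 (h3 ▸ ⟨center_le_centralizer _ (hfix g hgC v (hVB hv) hgv), hv⟩)

/-- An `s`-element of `N` normalizing but not centralizing. -/
theorem exists_normalizing (h : TwoSz N m) {s : ℕ} [hs : Fact s.Prime] {x : G} (hx : x ∈ N)
    (hg : GoodC N (centralizer {x})) (h1 : s ∣ (centralizer ({x} : Set G)).relIndex N)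
    (h2 : s ∣ (center G).relIndex (N ⊓ centralizer {x})) :
    ∃ y ∈ N, y ∈ normalizer ((centralizer ({x} : Set G) : Subgroup G) : Set G) ∧
      y ∉ centralizer ({x} : Set G) ∧ ∃ k, orderOf y = s ^ k := by
  have hn := h.normal
  set C := centralizer ({x} : Set G) with hC
  obtain ⟨P, hP⟩ := exists_sylow_not_dvd_relIndex s (N ⊓ C)
  have h3 : (P : Subgroup G) ⊓ (N ⊓ C) < (P : Subgroup G) ⊓ N := by
    refine lt_of_le_of_ne (inf_le_inf_left _ inf_le_left) fun h4 => P.not_dvd_index ?_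
    refine (h1.trans ?_).trans (relIndex_dvd_index_of_normal_right _ N)
    rw [← inf_relIndex_right (P : Subgroup G), ← h4]
    exact relIndex_dvd_of_le_left _ (inf_le_right.trans inf_le_right)
  obtain ⟨y, hy, hy'⟩ := SetLike.exists_of_lt
    (lt_inf_normalizer_of_isPGroup P.isPGroup'.to_inf_left h3)
  have h4 : ¬ (P : Subgroup G) ⊓ (N ⊓ C) ≤ center G := fun h4 => hP (by
    rw [← inf_relIndex_right]
    exact h2.trans (relIndex_dvd_of_le_left _ h4))
  obtain ⟨w, hw, hwZ⟩ := SetLike.not_le_iff_exists.1 h4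
  exact ⟨y, hy.1.2, h.mem_normalizer hx hg hw.2.1 hw.2.2 hwZ ((mem_normalizer_iff.1 hy.2 w).1 hw).2.2,
    fun h5 => hy' ⟨hy.1.1, hy.1.2, h5⟩, orderOf_eq_pow_of_mem_isPGroup P.isPGroup' hy.1.1⟩

end TwoSz

end CfsgLib.ClassSz
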